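import Cfsg.Agent.H823.O8R.Defs
import Cfsg.Agent.H886.O8R.StabV

/-!
# S3691-O8R, box ORD-V: `sieg_of_order` (helper886)

A subgroup `R` of `PΩ₈⁺(q)` which fixes a nonsingular point `⟨w⟩` and has a subgroup isomorphic to `PSp₆(q)` or `PΩ₇(q)`
contains the Siegel transformations of `w^⊥`.
-/

set_option autoImplicit false
set_option linter.unusedSectionVars false

namespace Cfsg.Agent.H886.O8R

open Module QuadraticMap Cfsg Cfsg.Geo Cfsg.Agent.LieClassical.OrthCore Cfsg.Agent.H955 Cfsg.Agent.H954.TSing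
open Cfsg.Agent.LieClassical.OmegaReindex Cfsg.Agent.OrdDiv Cfsg.Agent.H436
open Cfsg.Agent.H951 (fx cm Inv)
open Cfsg.Agent.H884.El
open Cfsg.Agent.H708.O8 (I8 T8 RB)
open Cfsg.Agent.H823.O8S Cfsg.Agent.H823.O8R
open scoped MatrixGroups Matrix Pointwise

variable {F : Type} [Field F] [Fintype F] {p a r b s k t : ℕ} {R : Subgroup (T8 F)}

/-- the elements over `R` fix `w` up to sign -/
theorem fix_of_pre {w : I8 → F} (hw : quadFormPlus 4 F w ≠ 0)
    (hR : pre (quadFormPlus 4 F) R ≤ SW (Submodule.span F {w})) {x : Omega F (quadFormPlus 4 F)}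
    (hx : mkT F x ∈ R) : om F x w = w ∨ om F x w = -w := by
  have h1 : ((x : isometryGroup F (quadFormPlus 4 F)) : GL I8 F) ∈ SW (Submodule.span F {w}) := hR (mem_pre.2 hx)
  rw [mem_SW] at h1
  have h2 : om F x w ∈ Submodule.span F {w} := by
    have h3 : lin ((x : isometryGroup F (quadFormPlus 4 F)) : GL I8 F) w ∈
        (Submodule.span F {w}).map (lin ((x : isometryGroup F (quadFormPlus 4 F)) : GL I8 F)) :=
      Submodule.mem_map_of_mem (Submodule.mem_span_singleton_self w)
    rw [h1] at h3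
    exact h3
  obtain ⟨c, hc⟩ := Submodule.mem_span_singleton.1 h2
  have h3 := Q_om x w
  rw [← hc, ← coe_QF, QuadraticMap.map_smul, smul_eq_mul, coe_QF] at h3
  have h4 : c * c = 1 := mul_right_cancel₀ hw (by rw [h3, one_mul])
  rcases mul_self_eq_one_iff.1 h4 with h5 | h5
  · left
    rw [← hc, h5, one_smul]
  · right
    rw [← hc, h5, neg_one_smul]

/-- **(ORD-V)** -/
theorem sieg_of_order (hF : Nat.card F = p ^ a) (h : Nm p a r b s k t) {w : I8 → F} (hw : quadFormPlus 4 F w ≠ 0)
    (hR : pre (quadFormPlus 4 F) R ≤ SW (Submodule.span F {w})) (S : Subgroup R)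
    (hK : (∃ (K : Type) (_ : Field K) (_ : Fintype K), Fintype.card K = p ^ a ∧ Nonempty (S ≃* PSp 3 K)) ∨
      (p ≠ 2 ∧ ∃ (K : Type) (_ : Field K) (_ : Fintype K), Fintype.card K = p ^ a ∧
        Nonempty (S ≃* POmega K (quadFormOdd 3 K)))) : HasSieg R (Submodule.span F {w}) := by
  have hFc : Fintype.card F = p ^ a := by rw [← Nat.card_eq_fintype_card]; exact hF
  -- the order of `S`
  have hS : Nat.gcd 2 (Fintype.card F - 1) * Nat.card (POmega F (quadFormPlus 4 F)) =
      (Fintype.card F ^ 7 - Fintype.card F ^ 3) * Nat.card S := by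
    rcases hK with ⟨K, i1, i2, hK, ⟨e⟩⟩ | ⟨hp2, K, i1, i2, hK, ⟨e⟩⟩
    · rw [card_rel (F := F) (K := K) (hK.trans hFc.symm), Nat.card_congr e.toEquiv]
    · rw [card_rel (F := F) (K := K) (hK.trans hFc.symm), Nat.card_congr e.toEquiv]
      congr 1
      have ho : Odd (Fintype.card K) := by
        rw [hK]
        exact (h.rb.hp.odd_of_ne_two hp2).pow
      have h1 := psp_eq (F := K) (m := 3) (by norm_num)
      have h2 := oodd_eq (F := K) (m := 3) le_rfl ho
      change Nat.gcd 2 (Fintype.card K - 1) * Nat.card (PSp 3 K) = Fintype.card K ^ (3 ^ 2) * prB (Fintype.card K) 3 at h1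
      change 2 * Nat.card (POmega K (quadFormOdd 3 K)) = Fintype.card K ^ (3 ^ 2) * prB (Fintype.card K) 3 at h2
      have h3 : Nat.gcd 2 (Fintype.card K - 1) = 2 := by
        obtain ⟨k, hk⟩ := ho
        exact Nat.gcd_eq_left (by omega)
      rw [h3, ← h2] at h1
      omega
  intro u v hu hv h1 h2
  have h3 : polar (QF F) u w = 0 := h1 w (Submodule.mem_span_singleton_self w)
  have h4 : polar (QF F) v w = 0 := h2 w (Submodule.mem_span_singleton_self w)
  obtain ⟨x, hx⟩ := exists_omega (siegel_mem_E (Q := QF F) hu hv)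
  have h5 : om F x w = w := by
    rw [hx, siegel_apply, h3, h4]
    simp
  have h6 := mem_of_card (R := R) hw (fun y hy => fix_of_pre hw hR hy)
    (hS.le.trans (Nat.mul_le_mul_left _ (Nat.le_of_dvd Nat.card_pos (Subgroup.card_subgroup_dvd_card S)))) h5
  have h7 : (LieClassical.OrthFinite.glEquiv I8 F).symm (siegel (QF F) u v hu hv) =
      ((x : isometryGroup F (quadFormPlus 4 F)) : GL I8 F) := by
    rw [MulEquiv.symm_apply_eq]
    exact hx.symm
  rw [h7]
  exact mem_pre.2 h6

end Cfsg.Agent.H886.O8R
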