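import Cfsg.Agent.H823.O8R.Defs
import Cfsg.Agent.H886.O8R.StabV

/-!
# S3691-O8R: the long root elements of `Ω₈⁺(q)` form one class (helper886)

* `trans_perp` : `E Q` is transitive on the nonzero singular vectors perpendicular to a hyperbolic pair, the pair being fixed;
* `trans_line` : `E Q` is transitive on the bases of the totally singular lines;
* `root_conj` : two Siegel transformations of totally singular lines are conjugate under `Ω`.
-/

set_option autoImplicit false
set_option linter.unusedSectionVars false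

namespace Cfsg.Agent.H886.O8R

open Module QuadraticMap Cfsg
open Cfsg.Agent.LieClassical.OrthCore Cfsg.Agent.LieClassical.OrthTrans Cfsg.Agent.LieClassical.OrthFinite

section gen

variable {F V : Type*} [Field F] [AddCommGroup V] [Module F V] {Q : QuadraticForm F V}

/-- a Siegel transformation which fixes the hyperbolic pair `(u, v)` and maps `x` to `x'` -/
theorem siegel_perp (hQ : Nondeg Q) {u v x x' : V} (h : Hyp Q u v) (hx : Q x = 0) (hx' : Q x' = 0)
    (hp : polar Q x x' = 0) (hux : polar Q u x = 0) (hvx : polar Q v x = 0) (hux' : polar Q u x' = 0)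
    (hvx' : polar Q v x' = 0) (hind : ∀ c : F, x ≠ c • (x' - x)) : ∃ g ∈ E Q, g u = u ∧ g v = v ∧ g x = x' := by
  obtain ⟨y0, hy1, hy2⟩ := exists_sep hQ hind
  have hd1 : polar Q u (x' - x) = 0 := by rw [polar_sub_right, hux, hux', sub_zero]
  have hd2 : polar Q v (x' - x) = 0 := by rw [polar_sub_right, hvx, hvx', sub_zero]
  have hy1' : polar Q (x' - x) (proj Q u v y0) = 0 := by rw [polar_proj_of_perp hd1 hd2, hy1]
  have hy2' : polar Q x (proj Q u v y0) = 1 := by rw [polar_proj_of_perp hux hvx, hy2]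
  have hz : Q (x' - x) = 0 := by
    rw [sub_eq_add_neg, Q_add, QuadraticMap.map_neg, polar_neg_right, polar_comm Q x' x, hp, hx, hx']
    simp
  have hzy : polar Q (x' - x) (-(proj Q u v y0)) = 0 := by rw [polar_neg_right, hy1', neg_zero]
  refine ⟨siegel Q (x' - x) (-(proj Q u v y0)) hz hzy, siegel_mem_E _ _, ?_, ?_, ?_⟩
  · rw [siegel_apply, polar_comm Q (x' - x) u, hd1, polar_neg_left, polar_comm Q (proj Q u v y0) u, polar_proj_left h]
    simp
  · rw [siegel_apply, polar_comm Q (x' - x) v, hd2, polar_neg_left, polar_comm Q (proj Q u v y0) v, polar_proj_right h]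
    simp
  · have h1 : polar Q (x' - x) x = 0 := by
      rw [polar_sub_left, polar_comm Q x' x, hp, polar_self_of_sing hx, sub_zero]
    rw [siegel_apply, h1, polar_neg_left, polar_comm Q (proj Q u v y0) x, hy2']
    simp

/-- independence gives the hypothesis of `siegel_perp` -/
theorem ne_smul_sub {x x' : V} (h1 : ∀ c : F, x ≠ c • x') (h0 : x' ≠ 0) (c : F) : x ≠ c • (x' - x) := by
  intro hc
  by_cases h2 : (1 + c) = 0
  · have hc' : c = -1 := by linear_combination h2
    rw [hc'] at hc
    apply h0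
    have h3 : x - (-1 : F) • (x' - x) = x' := by module
    rw [← h3, ← hc, sub_self]
  · apply h1 ((1 + c)⁻¹ * c)
    have h3 : (1 + c) • x = c • x' := by
      have : (1 + c) • x = x + c • x := by module
      rw [this]
      nth_rewrite 1 [hc]
      module
    rw [mul_smul, ← h3, smul_smul, inv_mul_cancel₀ h2, one_smul]

/-- `E Q` is transitive on the nonzero singular vectors perpendicular to a hyperbolic pair -/
theorem trans_perp [Finite F] (hQ : Nondeg Q) (hd : 7 ≤ finrank F V) {u v x x' : V} (h : Hyp Q u v) (hx : Q x = 0)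
    (hx' : Q x' = 0) (h0 : x ≠ 0) (h0' : x' ≠ 0) (hux : polar Q u x = 0) (hvx : polar Q v x = 0)
    (hux' : polar Q u x' = 0) (hvx' : polar Q v x' = 0) : ∃ g ∈ E Q, g u = u ∧ g v = v ∧ g x = x' := by
  have key : ∀ t : V, Q t = 0 → polar Q u t = 0 → polar Q v t = 0 → polar Q x t = 0 → polar Q t x' = 0 →
      (∀ c : F, x ≠ c • t) → (∀ c : F, t ≠ c • x') → t ≠ 0 → ∃ g ∈ E Q, g u = u ∧ g v = v ∧ g x = x' := by
    intro t ht hut hvt hxt htx' hi hi' ht0
    obtain ⟨g1, hg1, a1, b1, c1⟩ := siegel_perp hQ h hx ht hxt hux hvx hut hvt (ne_smul_sub hi ht0)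
    obtain ⟨g2, hg2, a2, b2, c2⟩ := siegel_perp hQ h ht hx' htx' hut hvt hux' hvx' (ne_smul_sub hi' h0')
    refine ⟨g2 * g1, E_mul hg2 hg1, ?_, ?_, ?_⟩
    · show g2 (g1 u) = u
      rw [a1, a2]
    · show g2 (g1 v) = v
      rw [b1, b2]
    · show g2 (g1 x) = x'
      rw [c1, c2]
  by_cases hp : polar Q x x' = 0
  · by_cases hdep : ∃ c : F, x' = c • x
    · obtain ⟨c, rfl⟩ := hdep
      obtain ⟨z, hz, huz, hvz⟩ := exists_hyp_perp hQ h hx h0 hux hvx
      obtain ⟨t, ht0, ht, h1⟩ := exists_sing_perp (Q := Q) ![u, v, x, z] (by omega)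
      have hut : polar Q u t = 0 := h1 0
      have hvt : polar Q v t = 0 := h1 1
      have hxt : polar Q x t = 0 := h1 2
      have hzt : polar Q z t = 0 := h1 3
      refine key t ht hut hvt hxt ?_ ?_ ?_ ht0
      · rw [polar_smul_right, polar_comm Q t x, hxt, smul_zero]
      · intro d hd'
        have h2 := hz.pair'
        rw [hd', polar_smul_right, hzt, smul_zero] at h2
        exact zero_ne_one h2
      · intro d hd'
        apply ht0
        rw [hd', smul_smul, polar_smul_right, hz.pair', smul_eq_mul, mul_one] at hzt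
        rw [hd', smul_smul, hzt, zero_smul]
    · push Not at hdep
      refine siegel_perp hQ h hx hx' hp hux hvx hux' hvx' (ne_smul_sub ?_ h0')
      intro c hc
      by_cases hc0 : c = 0
      · rw [hc0, zero_smul] at hc
        exact h0 hc
      · apply hdep c⁻¹
        rw [hc, smul_smul, inv_mul_cancel₀ hc0, one_smul]
  · obtain ⟨t, ht0, ht, h1⟩ := exists_sing_perp (Q := Q) ![u, v, x, x'] (by omega)
    have hut : polar Q u t = 0 := h1 0
    have hvt : polar Q v t = 0 := h1 1
    have hxt : polar Q x t = 0 := h1 2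
    have hx't : polar Q x' t = 0 := h1 3
    refine key t ht hut hvt hxt (polar_zero_of_comm hx't) ?_ ?_ ht0
    · intro c hc
      apply hp
      rw [hc, polar_smul_left, polar_comm Q t x', hx't, smul_zero]
    · intro c hc
      have h1 : polar Q x t = c * polar Q x x' := by rw [hc, polar_smul_right, smul_eq_mul]
      rw [hxt] at h1
      rcases mul_eq_zero.1 h1.symm with h | h
      · rw [h, zero_smul] at hc
        exact ht0 hc
      · exact hp h

/-- a singular partner of `u` which is perpendicular to `w` -/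
theorem exists_partner (hQ : Nondeg Q) {u w : V} (hu : Q u = 0) (huw : polar Q u w = 0)
    (hl : ∀ c : F, u ≠ c • w) : ∃ v, Hyp Q u v ∧ polar Q v w = 0 := by
  obtain ⟨y, hy1, hy2⟩ := exists_sep hQ hl
  refine ⟨y + (-Q y) • u, ⟨hu, ?_, ?_⟩, ?_⟩
  · rw [Q_add, QuadraticMap.map_smul, hu, polar_smul_right, polar_comm Q y u, hy2]
    simp
  · rw [polar_add_right, polar_smul_right, polar_self_of_sing hu, hy2]
    simp
  · rw [polar_add_left, polar_smul_left, huw, polar_comm Q y w, hy1]
    simp

/-- **transitivity on the bases of the totally singular lines** -/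
theorem trans_line [Finite F] (hQ : Nondeg Q) (hd : 7 ≤ finrank F V) {u w u' w' : V} (hu : Q u = 0) (hw : Q w = 0)
    (huw : polar Q u w = 0) (hl : LinearIndependent F ![u, w]) (hu' : Q u' = 0) (hw' : Q w' = 0)
    (huw' : polar Q u' w' = 0) (hl' : LinearIndependent F ![u', w']) : ∃ g ∈ E Q, g u = u' ∧ g w = w' := by
  have hne : ∀ {a b : V}, LinearIndependent F ![a, b] → (∀ c : F, a ≠ c • b) ∧ b ≠ 0 := by
    intro a b hab
    constructor
    · intro c hc
      have h1 := LinearIndependent.pair_iff.1 hab 1 (-c) (by rw [one_smul, hc]; module)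
      exact one_ne_zero h1.1
    · exact hab.ne_zero 1
  obtain ⟨v, hv, hvw⟩ := exists_partner hQ hu huw (hne hl).1
  obtain ⟨v', hv', hvw'⟩ := exists_partner hQ hu' huw' (hne hl').1
  have hG : Good Q := good_of_finite hQ (by omega)
  obtain ⟨g1, hg1, a1, b1⟩ := hG.trans_hyp hv hv'
  have hO := E_le_O hg1
  obtain ⟨g2, hg2, a2, -, c2⟩ := trans_perp hQ hd hv' (x := g1 w) (x' := w') (by rw [mem_O.1 hO]; exact hw) hw'
    (by
      intro h0
      exact (hne hl).2 (g1.injective (h0.trans (map_zero g1).symm))) (hne hl').2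
    (by rw [← a1, polar_map hO]; exact huw) (by rw [← b1, polar_map hO]; exact hvw) huw' hvw'
  refine ⟨g2 * g1, E_mul hg2 hg1, ?_, ?_⟩
  · show g2 (g1 u) = u'
    rw [a1, a2]
  · exact c2

end gen

variable {F : Type} [Field F] [Fintype F]

open Cfsg.Agent.H708.O8 (I8)
open LieClassical.QuadForms (plusForm)

/-- **the long root elements form one class** (S3691, row `PΩ⁺₈(q)`) -/
theorem root_conj {u w u' w' : I8 → F} (hu : plusForm 4 F u = 0) (hw : plusForm 4 F w = 0)
    (huw : polar (plusForm 4 F) u w = 0) (hl : LinearIndependent F ![u, w])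
    (hu' : plusForm 4 F u' = 0) (hw' : plusForm 4 F w' = 0) (huw' : polar (plusForm 4 F) u' w' = 0)
    (hl' : LinearIndependent F ![u', w']) :
    ∃ g ∈ Geo.omegaGL (quadFormPlus 4 F), (LieClassical.OrthFinite.glEquiv I8 F).symm
        (LieClassical.OrthCore.siegel (plusForm 4 F) u' w' hu' huw') =
      g * (LieClassical.OrthFinite.glEquiv I8 F).symm (LieClassical.OrthCore.siegel (plusForm 4 F) u w hu huw) * g⁻¹ := by
  obtain ⟨g, hg, rfl, rfl⟩ := trans_line (Q := plusForm 4 F) nd_QF (by
    rw [finrank_fintype_fun_eq_card, Fintype.card_sum, Fintype.card_fin]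
    norm_num) hu hw huw hl hu' hw' huw' hl'
  obtain ⟨x, hx⟩ := exists_omega hg
  have h1 : glEquiv I8 F ((x : isometryGroup F (quadFormPlus 4 F)) : Matrix.GeneralLinearGroup I8 F) = g := hx
  refine ⟨((x : isometryGroup F (quadFormPlus 4 F)) : Matrix.GeneralLinearGroup I8 F), ⟨_, x.2, rfl⟩, ?_⟩
  rw [← siegel_conj (E_le_O hg) hu huw hu' huw', map_mul, map_mul, map_inv, ← h1, MulEquiv.symm_apply_apply]

end Cfsg.Agent.H886.O8R
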