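import Cfsg.Agent.H823.O8R.Defs
import Cfsg.Agent.H886.O8R.RootConj
import Cfsg.Agent.H245.RG.WittQ
import Cfsg.Agent.H749.BlockOrth
import Cfsg.Agent.H749.QuadSplit
import Cfsg.Agent.H955.FSZero

/-!
# S3691-O8R, box F34-K: the kills `kill_fix`, `kill_sieg` (helper886)

* `trans_perp_norm`, `trans_sv`, `trans_plane` : transitivity of `E Q` (vectors of equal norm perpendicular to a hyperbolic
  pair; pairs `u`, `w` with `u` singular; bases of nondegenerate planes);
* `mem_of_fix` : an isometry of odd order trivial on `W` lies in the group generated by the Siegel transformations of `W^⊥`;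
* `kill_sieg`, `kill_fix`.
-/

set_option autoImplicit false
set_option linter.unusedSectionVars false
set_option linter.unusedVariables false

namespace Cfsg.Agent.H886.O8R

open Module QuadraticMap Cfsg
open Cfsg.Agent.LieClassical.OrthCore Cfsg.Agent.LieClassical.OrthTrans Cfsg.Agent.LieClassical.OrthFinite
open Cfsg.Agent.H955 (res perp hperp mem_perp mem_perp' nondeg_hperp finrank_hperp nondeg_res_iff nondeg_perp finrank_perp
  finrank_add_perp isCompl_perp Q_add_of_perp exists_add_perp glue glue_apply glue_left glue_right nondeg_of_aniso)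

section gen

universe u v

variable {F : Type u} {V : Type v} [Field F] [Finite F] [AddCommGroup V] [Module F V] [FiniteDimensional F V]
  {Q : QuadraticForm F V}

/-- `E Q` is transitive on the nonzero vectors of given norm perpendicular to a hyperbolic pair -/
theorem trans_perp_norm (hQ : Nondeg Q) (hd : 7 ≤ finrank F V) {u v x x' : V} (h : Hyp Q u v) (hx : Q x = Q x')
    (h0 : x ≠ 0) (h0' : x' ≠ 0) (hux : polar Q u x = 0) (hvx : polar Q v x = 0)
    (hux' : polar Q u x' = 0) (hvx' : polar Q v x' = 0) : ∃ g ∈ E Q, g u = u ∧ g v = v ∧ g x = x' := by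
  have hU := nondeg_hperp hQ h
  have hf := finrank_hperp h
  have hG : Good (res Q (hperp Q u v)) := good_of_finite hU (by omega)
  obtain ⟨g0, hg0, h1⟩ := hG.trans_norm (v := ⟨x, hux, hvx⟩) (v' := ⟨x', hux', hvx'⟩)
    (fun h2 => h0 (congrArg Subtype.val h2)) (fun h2 => h0' (congrArg Subtype.val h2)) hx
  obtain ⟨g, hg, hg1, hg2⟩ := H245.RG.exists_extension _ hg0
  refine ⟨g, hg, hg2 u fun z hz => ?_, hg2 v fun z hz => ?_, ?_⟩
  · rw [polar_comm]; exact hz.1
  · rw [polar_comm]; exact hz.2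
  · have h2 := hg1 ⟨x, hux, hvx⟩
    rw [h1] at h2
    exact h2

/-- transitivity on pairs `u`, `w` with `u` singular and perpendicular to `w` -/
theorem trans_sv (hQ : Nondeg Q) (hd : 7 ≤ finrank F V) {u w u' w' : V} (hu : Q u = 0) (hw : Q w = Q w')
    (huw : polar Q u w = 0) (hl : LinearIndependent F ![u, w]) (hu' : Q u' = 0)
    (huw' : polar Q u' w' = 0) (hl' : LinearIndependent F ![u', w']) : ∃ g ∈ E Q, g u = u' ∧ g w = w' := by
  have hne : ∀ {a b : V}, LinearIndependent F ![a, b] → (∀ c : F, a ≠ c • b) ∧ b ≠ 0 := by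
    intro a b hab
    constructor
    · intro c hc
      have h1 := LinearIndependent.pair_iff.1 hab 1 (-c) (by rw [one_smul, hc]; module)
      exact one_ne_zero h1.1
    · exact hab.ne_zero 1
  obtain ⟨v, hv, hvw⟩ := exists_partner hQ hu huw (hne hl).1
  obtain ⟨v', hv', hvw'⟩ := exists_partner hQ hu' huw' (hne hl').1
  have hG : Good Q := good_of_finite hQ (by omega)
  obtain ⟨g1, hg1, a1, b1⟩ := hG.trans_hyp hv hv'
  have hO := E_le_O hg1
  obtain ⟨g2, hg2, a2, -, c2⟩ := trans_perp_norm hQ hd hv' (x := g1 w) (x' := w') (by rw [mem_O.1 hO]; exact hw)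
    (by
      intro h0
      exact (hne hl).2 (g1.injective (h0.trans (map_zero g1).symm))) (hne hl').2
    (by rw [← a1, polar_map hO]; exact huw) (by rw [← b1, polar_map hO]; exact hvw) huw' hvw'
  refine ⟨g2 * g1, E_mul hg2 hg1, ?_, ?_⟩
  · show g2 (g1 u) = u'
    rw [a1, a2]
  · exact c2

/-- a pair `x`, `y` with `x` singular, `x ⟂ y`, `y` of given norm in the orthogonal space of `W` -/
theorem exists_sv {W : Submodule F V} (hQ : Nondeg Q) (hW : Nondeg (res Q W)) (hd : 5 ≤ finrank F (perp Q W)) (c : F) :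
    ∃ x ∈ perp Q W, ∃ y ∈ perp Q W, Q x = 0 ∧ polar Q x y = 0 ∧ Q y = c ∧ LinearIndependent F ![x, y] := by
  have hG : Good (res Q (perp Q W)) := good_of_finite (nondeg_perp hQ hW) hd
  obtain ⟨x, y, hxy⟩ := hG.exists_hyp
  obtain ⟨z, w, hzw, hxz, hxw, hyz, hyw⟩ := hG.exists_hyp2 hxy
  have e1 : polar Q (x : V) (z : V) = 0 := hxz
  have e2 : polar Q (x : V) (w : V) = 0 := hxw
  have e3 : polar Q (y : V) (z : V) = 0 := hyz
  have e4 : polar Q (y : V) (w : V) = 0 := hyw
  have e5 : Q (z : V) = 0 := hzw.left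
  have e6 : Q (w : V) = 0 := hzw.right
  have e7 : polar Q (z : V) (w : V) = 1 := hzw.pair
  have e8 : Q (x : V) = 0 := hxy.left
  have e9 : polar Q (y : V) (x : V) = 1 := hxy.pair'
  have e10 : polar Q (w : V) (z : V) = 1 := hzw.pair'
  have e11 : polar Q (w : V) (w : V) = 0 := hzw.polar_right
  refine ⟨x, x.2, (z : V) + c • (w : V), add_mem z.2 (Submodule.smul_mem _ _ w.2), e8, ?_, ?_, ?_⟩
  · rw [polar_add_right, polar_smul_right, e1, e2]; simp
  · rw [Q_add, QuadraticMap.map_smul, polar_smul_right, e5, e6, e7]; simp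
  · rw [LinearIndependent.pair_iff]
    intro s t h
    have h1 := congrArg (polar Q (y : V)) h
    rw [polar_add_right, polar_smul_right, polar_smul_right, polar_add_right, polar_smul_right, e9, e3, e4,
      polar_zero_right] at h1
    have h2 := congrArg (polar Q (w : V)) h
    rw [polar_add_right, polar_smul_right, polar_smul_right, polar_add_right, polar_smul_right, e10, e11,
      polar_comm Q (w : V) (x : V), e2, polar_zero_right] at h2
    simp at h1 h2
    exact ⟨h1, h2⟩

/-- a singular `y` with `b(a, y) = 1`, `b(b, y) = 0` for a basis `a`, `b` of a nondegenerate plane -/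
theorem exists_y (hQ : Nondeg Q) {a b : V} (hP : Nondeg (res Q (Submodule.span F {a, b})))
    (hl : LinearIndependent F ![a, b]) (hd : 7 ≤ finrank F V) : ∃ y, Q y = 0 ∧ polar Q a y = 1 ∧ polar Q b y = 0 := by
  have hab : ∀ c : F, a ≠ c • b := by
    intro c hc
    have h1 := LinearIndependent.pair_iff.1 hl 1 (-c) (by rw [one_smul, hc]; module)
    exact one_ne_zero h1.1
  obtain ⟨y0, h1, h2⟩ := exists_sep hQ hab
  obtain ⟨p, u0, h3⟩ := exists_add_perp hP y0
  have hfp : finrank F (Submodule.span F {a, b}) = 2 := by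
    have h4 := finrank_span_eq_card hl
    rw [Fintype.card_fin] at h4
    rwa [Matrix.range_cons_cons_empty] at h4
  have hf := finrank_add_perp hQ (Submodule.span F {a, b})
  have hG : Good (res Q (perp Q (Submodule.span F {a, b}))) := good_of_finite (nondeg_perp hQ hP) (by omega)
  obtain ⟨x', y', hxy⟩ := hG.exists_hyp
  have e5 : Q (x' : V) = 0 := hxy.left
  have e6 : Q (y' : V) = 0 := hxy.right
  have e7 : polar Q (x' : V) (y' : V) = 1 := hxy.pair
  have ha : a ∈ Submodule.span F {a, b} := Submodule.subset_span (Set.mem_insert _ _)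
  have hb : b ∈ Submodule.span F {a, b} := Submodule.subset_span (Set.mem_insert_of_mem _ rfl)
  have hd' : (x' : V) + (-Q (p : V)) • (y' : V) ∈ perp Q (Submodule.span F {a, b}) :=
    add_mem x'.2 (Submodule.smul_mem _ _ y'.2)
  refine ⟨(p : V) + ((x' : V) + (-Q (p : V)) • (y' : V)), ?_, ?_, ?_⟩
  · rw [Q_add_of_perp p.2 hd', Q_add, QuadraticMap.map_smul, polar_smul_right, e5, e6, e7]
    simp
  · rw [polar_add_right, hd' a ha, add_zero, ← h2, ← h3, polar_add_right, u0.2 a ha, add_zero]
  · rw [polar_add_right, hd' b hb, add_zero, ← h1, ← h3, polar_add_right, u0.2 b hb, add_zero]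

/-- **transitivity on the bases of isometric nondegenerate planes** -/
theorem trans_plane (hQ : Nondeg Q) (hd : 7 ≤ finrank F V) {a b a' b' : V}
    (hP : Nondeg (res Q (Submodule.span F {a, b}))) (hl : LinearIndependent F ![a, b])
    (hP' : Nondeg (res Q (Submodule.span F {a', b'}))) (hl' : LinearIndependent F ![a', b'])
    (ha : Q a = Q a') (hb : Q b = Q b') (hab : polar Q a b = polar Q a' b') (hb0 : Q b ≠ 0) :
    ∃ g ∈ E Q, g a = a' ∧ g b = b' := by
  -- normal form
  have key : ∀ a b : V, Nondeg (res Q (Submodule.span F {a, b})) → LinearIndependent F ![a, b] → Q b ≠ 0 →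
      ∃ x y c, Hyp Q x y ∧ polar Q x c = 0 ∧ polar Q y c = 0 ∧ c ≠ 0 ∧ Q c = Q b ∧ a = x + Q a • y ∧
        b = polar Q a b • y + c := by
    intro a b hP hl hb0
    obtain ⟨y, hy, hay, hby⟩ := exists_y hQ hP hl hd
    have hyy : polar Q y y = 0 := polar_self_of_sing hy
    have hx : Q (a + (-Q a) • y) = 0 := by
      rw [Q_add, QuadraticMap.map_smul, polar_smul_right, hy, hay]; simp
    refine ⟨a + (-Q a) • y, y, b + (-polar Q a b) • y, ⟨hx, hy, ?_⟩, ?_, ?_, ?_, ?_, ?_, ?_⟩
    · rw [polar_add_left, polar_smul_left, hyy, hay]; simp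
    · rw [polar_add_right, polar_smul_right, polar_add_left, polar_add_left, polar_smul_left, polar_smul_left, hyy, hay,
        polar_comm Q y b, hby]
      simp
    · rw [polar_add_right, polar_smul_right, hyy, polar_comm Q y b, hby]; simp
    · intro h0
      apply hb0
      have h1 : b = polar Q a b • y := by
        have h2 : b = (b + (-polar Q a b) • y) + polar Q a b • y := by module
        rw [h2, h0, zero_add]
        rw [polar_smul_right, hay, smul_eq_mul, mul_one]
      rw [h1, QuadraticMap.map_smul, hy, smul_zero]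
    · rw [Q_add, QuadraticMap.map_smul, polar_smul_right, hy, hby]; simp
    · module
    · module
  obtain ⟨x, y, c, h1, h2, h3, h4, h5, h6, h7⟩ := key a b hP hl hb0
  obtain ⟨x', y', c', h1', h2', h3', h4', h5', h6', h7'⟩ := key a' b' hP' hl' (by rw [← hb]; exact hb0)
  have hG : Good Q := good_of_finite hQ (by omega)
  obtain ⟨g1, hg1, a1, b1⟩ := hG.trans_hyp h1 h1'
  have hO := E_le_O hg1
  obtain ⟨g2, hg2, a2, b2, c2⟩ := trans_perp_norm hQ hd h1' (x := g1 c) (x' := c')
    (by rw [mem_O.1 hO, h5, h5', hb])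
    (fun h0 => h4 (g1.injective (h0.trans (map_zero g1).symm))) h4'
    (by rw [← a1, polar_map hO]; exact h2) (by rw [← b1, polar_map hO]; exact h3) h2' h3'
  refine ⟨g2 * g1, E_mul hg2 hg1, ?_, ?_⟩
  · show g2 (g1 a) = a'
    rw [h6, map_add, map_smul, map_add, map_smul, a1, b1, a2, b2, ha]
    exact h6'.symm
  · show g2 (g1 b) = b'
    rw [h7, map_add, map_smul, map_add, map_smul, b1, b2, c2, hab]
    exact h7'.symm

/-- a copy of a plane in a nondegenerate space of dimension at least four -/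
theorem exists_copy {U : Submodule F V} (hU : Nondeg (res Q U)) (hd : 4 ≤ finrank F U) (α β γ : F) :
    ∃ a ∈ U, ∃ b ∈ U, Q a = α ∧ polar Q a b = β ∧ Q b = γ := by
  obtain ⟨x, hx0, hx, -⟩ := exists_sing_perp (Q := res Q U) (n := 0) ![] (by omega)
  obtain ⟨y, hxy⟩ := exists_hyp hU hx hx0
  have hf := finrank_hperp hxy
  obtain ⟨c, hc⟩ := H749.exists_value (nondeg_hperp hU hxy) (by omega) γ
  have e1 : Q ((x : U) : V) = 0 := hxy.left
  have e2 : Q ((y : U) : V) = 0 := hxy.right
  have e3 : polar Q ((x : U) : V) ((y : U) : V) = 1 := hxy.pair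
  have e4 : polar Q ((x : U) : V) ((c : U) : V) = 0 := c.2.1
  have e5 : polar Q ((y : U) : V) ((c : U) : V) = 0 := c.2.2
  have e6 : Q ((c : U) : V) = γ := hc
  have e7 : polar Q ((y : U) : V) ((y : U) : V) = 0 := hxy.polar_right
  refine ⟨x + α • (y : V), add_mem x.2 (Submodule.smul_mem _ _ y.2), β • (y : V) + c,
    add_mem (Submodule.smul_mem _ _ y.2) (c : U).2, ?_, ?_, ?_⟩
  · rw [Q_add, QuadraticMap.map_smul, polar_smul_right, e1, e2, e3]; simp
  · rw [polar_add_left, polar_add_right, polar_add_right, polar_smul_left, polar_smul_left, polar_smul_right,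
      polar_smul_right, e3, e4, e5, e7]
    simp
  · rw [Q_add, QuadraticMap.map_smul, polar_smul_left, e2, e5, e6]; simp

/-- elements of `E` of a subspace extend inside every group containing the Siegel transformations -/
theorem exists_ext_mem (U : Submodule F V) {N : Subgroup (V ≃ₗ[F] V)}
    (hN : ∀ (u w : V) (hu : Q u = 0) (hw : polar Q u w = 0), u ∈ U → w ∈ U → siegel Q u w hu hw ∈ N)
    {g : U ≃ₗ[F] U} (hg : g ∈ E (res Q U)) :
    ∃ g' ∈ N, (∀ u : U, g' u = g u) ∧ ∀ z, (∀ u ∈ U, polar Q u z = 0) → g' z = z := by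
  rw [E] at hg
  induction hg using Subgroup.closure_induction with
  | mem x hx =>
    obtain ⟨u, w, hu, hw, rfl⟩ := hx
    have hu' : Q (u : V) = 0 := hu
    have hw' : polar Q (u : V) (w : V) = 0 := hw
    refine ⟨siegel Q u w hu' hw', hN _ _ _ _ u.2 w.2, fun z => ?_, fun z hz => ?_⟩
    · rw [siegel_apply, siegel_apply]
      rfl
    · rw [siegel_apply, hz u u.2, hz w w.2]
      simp
  | one => exact ⟨1, one_mem _, fun _ => rfl, fun _ _ => rfl⟩
  | mul x y _ _ hx hy =>
    obtain ⟨a, ha, ha1, ha2⟩ := hx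
    obtain ⟨b, hb, hb1, hb2⟩ := hy
    refine ⟨a * b, mul_mem ha hb, fun u => ?_, fun z hz => ?_⟩
    · show a (b u) = ((x (y u) : U) : V)
      rw [hb1, ha1]
    · show a (b z) = z
      rw [hb2 z hz, ha2 z hz]
  | inv x _ hx =>
    obtain ⟨a, ha, ha1, ha2⟩ := hx
    refine ⟨a⁻¹, inv_mem ha, fun u => ?_, fun z hz => ?_⟩
    · show a.symm u = ((x.symm u : U) : V)
      rw [LinearEquiv.symm_apply_eq, ha1, LinearEquiv.apply_symm_apply]
    · show a.symm z = z
      rw [LinearEquiv.symm_apply_eq, ha2 z hz]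

/-- **an isometry of odd order which is trivial on `W`** lies in every group containing the Siegel transformations of
`W^⊥` -/
theorem mem_of_fix {W : Submodule F V} (hQ : Nondeg Q) (hW : Nondeg (res Q W)) (hd : 5 ≤ finrank F (perp Q W))
    {N : Subgroup (V ≃ₗ[F] V)} (hN : ∀ (u w : V) (hu : Q u = 0) (hw : polar Q u w = 0), u ∈ perp Q W → w ∈ perp Q W →
      siegel Q u w hu hw ∈ N) {z : V ≃ₗ[F] V} (hz : z ∈ O Q) (hfix : ∀ v ∈ W, z v = v) {r : ℕ} (hr : Odd r)
    (hzr : z ^ r = 1) : z ∈ N := by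
  obtain ⟨m, hm⟩ := hr
  have hzi : ∀ v ∈ W, z⁻¹ v = v := by
    intro v hv
    show z.symm v = v
    rw [LinearEquiv.symm_apply_eq, hfix v hv]
  have hst : ∀ g : V ≃ₗ[F] V, g ∈ O Q → (∀ v ∈ W, g v = v) → ∀ v ∈ perp Q W, g v ∈ perp Q W := by
    intro g hg hgf v hv w hw
    rw [← hgf w hw, polar_map hg]
    exact hv w hw
  have h1 := hst z hz hfix
  have h2 := hst z⁻¹ (inv_mem hz) hzi
  -- the restriction
  let y : perp Q W ≃ₗ[F] perp Q W :=
    { toFun := fun v => ⟨z v, h1 v v.2⟩
      map_add' := fun a b => Subtype.ext (map_add z _ _)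
      map_smul' := fun c a => Subtype.ext (map_smul z c _)
      invFun := fun v => ⟨z⁻¹ v, h2 v v.2⟩
      left_inv := fun v => Subtype.ext (z.symm_apply_apply v)
      right_inv := fun v => Subtype.ext (z.apply_symm_apply v) }
  have hy : ∀ v : perp Q W, ((y v : perp Q W) : V) = z v := fun v => rfl
  have hyO : y ∈ O (res Q (perp Q W)) := fun v => mem_O.1 hz v
  have hyp : ∀ (n : ℕ) (v : perp Q W), (((y ^ n) v : perp Q W) : V) = (z ^ n) v := by
    intro n
    induction n with
    | zero => intro v; rfl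
    | succ n ih =>
      intro v
      rw [pow_succ, pow_succ, LinearEquiv.mul_apply, LinearEquiv.mul_apply, ih, hy]
  have hyr : y ^ r = 1 := by
    ext v
    rw [hyp, hzr]
    rfl
  have hG : Good (res Q (perp Q W)) := good_of_finite (nondeg_perp hQ hW) hd
  have hyE : y ∈ E (res Q (perp Q W)) := by
    have e : y = ((y * y) ^ m)⁻¹ := by
      rw [eq_inv_iff_mul_eq_one, ← pow_two, ← pow_mul, ← pow_succ', ← hm, hyr]
    rw [e]
    exact inv_mem (pow_mem (H749.sq_mem_E hG hyO) m)
  obtain ⟨g', hg', h3, h4⟩ := exists_ext_mem (perp Q W) hN hyE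
  have h5 : z = g' := by
    ext v
    obtain ⟨a, b, rfl⟩ := exists_add_perp hW v
    rw [map_add, map_add, hfix a a.2, h3 b, hy, h4 a]
    intro u hu
    exact mem_perp'.1 hu a a.2
  rw [h5]
  exact hg'

end gen

/-! ### the kills -/

open Cfsg.Geo Cfsg.Agent.H884.El Cfsg.Agent.H823.O8S Cfsg.Agent.H823.O8R
open Cfsg.Agent.H951 (fx cm)
open Cfsg.Agent.H708.O8 (I8 T8 RB)

variable {F : Type} [Field F] [Fintype F] {p a r b s k t : ℕ}

theorem finrank_I8' : finrank F (I8 → F) = 8 := by
  rw [finrank_fintype_fun_eq_card, Fintype.card_sum, Fintype.card_fin]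

theorem aniso_res {W : Submodule F (I8 → F)} (hW0 : ∀ w ∈ W, quadFormPlus 4 F w = 0 → w = 0) (hW : finrank F W = 2) :
    Nondeg (res (QF F) W) := by
  refine nondeg_of_aniso hW fun v hv => Subtype.ext (hW0 v v.2 ?_)
  rw [← coe_QF]
  exact hv

/-- the Siegel transformations of `W^⊥` as linear maps -/
theorem sieg_mem {X : Subgroup (T8 F)} {W : Submodule F (I8 → F)} (hs : HasSieg X W) (u w : I8 → F)
    (hu : QF F u = 0) (hw : polar (QF F) u w = 0) (h1 : u ∈ perp (QF F) W) (h2 : w ∈ perp (QF F) W) :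
    siegel (QF F) u w hu hw ∈ (pre (quadFormPlus 4 F) X).map (glEquiv I8 F).toMonoidHom := by
  refine ⟨_, hs u w hu hw (fun v hv => mem_perp'.1 h1 v hv) (fun v hv => mem_perp'.1 h2 v hv), ?_⟩
  exact (glEquiv I8 F).apply_symm_apply _

/-- **(F34-K2)** Siegel transformations -/
theorem kill_sieg (hF : Nat.card F = p ^ a) (h : Nm p a r b s k t) {X : Subgroup (T8 F)} {W : Submodule F (I8 → F)}
    (hW : finrank F W = 2) (hW0 : ∀ w ∈ W, quadFormPlus 4 F w = 0 → w = 0) (hs : HasSieg X W) (u w : I8 → F)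
    (hu : LieClassical.QuadForms.plusForm 4 F u = 0) (hw : polar (LieClassical.QuadForms.plusForm 4 F) u w = 0)
    (huw : LinearIndependent F ![u, w]) :
    ∃ g ∈ omegaGL (quadFormPlus 4 F), g * (LieClassical.OrthFinite.glEquiv I8 F).symm
      (LieClassical.OrthCore.siegel (LieClassical.QuadForms.plusForm 4 F) u w hu hw) * g⁻¹ ∈ pre (quadFormPlus 4 F) X := by
  have hQ : Nondeg (QF F) := nd_QF
  have hd : finrank F (J8 → F) = 8 := finrank_I8'
  have hf : finrank F W + finrank F (perp (QF F) W) = finrank F (J8 → F) := finrank_add_perp hQ W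
  obtain ⟨x, hx, y, hy, h1, h2, h3, h4⟩ := exists_sv hQ (aniso_res hW0 hW) (by omega) (QF F w)
  obtain ⟨g, hg, rfl, rfl⟩ := trans_sv hQ (by omega) hu h3.symm hw huw h1 h2 h4
  obtain ⟨o, ho⟩ := exists_omega hg
  have h5 : glEquiv I8 F ((o : isometryGroup F (quadFormPlus 4 F)) : Matrix.GeneralLinearGroup I8 F) = g := ho
  refine ⟨((o : isometryGroup F (quadFormPlus 4 F)) : Matrix.GeneralLinearGroup I8 F), ⟨_, o.2, rfl⟩, ?_⟩
  have h6 := hs (g u) (g w) h1 h2 (fun v hv => mem_perp'.1 hx v hv) (fun v hv => mem_perp'.1 hy v hv)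
  rw [← siegel_conj (E_le_O hg) hu hw h1 h2, map_mul, map_mul, map_inv, ← h5, MulEquiv.symm_apply_apply] at h6
  exact h6

/-- **(F34-K1)** elements of order `r` with fixed vectors -/
theorem kill_fix (hF : Nat.card F = p ^ a) (h : Nm p a r b s k t) {X : Subgroup (T8 F)} {W : Submodule F (I8 → F)}
    (hW : finrank F W = 2) (hW0 : ∀ w ∈ W, quadFormPlus 4 F w = 0 → w = 0) (hs : HasSieg X W) {y : GL I8 F}
    (hy : y ∈ omegaGL (quadFormPlus 4 F)) (hyr : orderOf y = r) (hfx : fx (lin y) ≠ ⊥) :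
    ∃ g ∈ omegaGL (quadFormPlus 4 F), g * y * g⁻¹ ∈ pre (quadFormPlus 4 F) X := by
  have hQ : Nondeg (QF F) := nd_QF
  have hd : finrank F (J8 → F) = 8 := finrank_I8'
  have hfp : finrank F W + finrank F (perp (QF F) W) = finrank F (J8 → F) := finrank_add_perp hQ W
  have hWn := aniso_res hW0 hW
  have hyr1 : y ^ r = 1 := by rw [← hyr, pow_orderOf_eq_one]
  -- the fixed space
  have hpp : PP (Nat.card F) 4 r := by
    rw [hF]
    have h1 : PP p (a * 4) r := by
      rw [mul_comm]
      exact prim_pp h.rb.hp.one_le h.rb.prim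
    exact h1.of_pow h.rb.ha
  have hyQ : ∀ v, QF F (lin y v) = QF F v := by
    obtain ⟨ω, -, rfl⟩ := hy
    intro v
    rw [coe_QF]
    exact mem_isometryGroup_iff.1 ω.2 v
  have hI : Iso (QF F) (lin y) r := Iso.mk' hpp (by norm_num) (by rw [← lin_pow, hyr1, lin_one]) hyQ
  have h4 : 4 ∣ finrank F (cm (lin y)) := hI.dvd_cm hpp
  have h8 : finrank F (fx (lin y)) + finrank F (cm (lin y)) = finrank F (J8 → F) := hI.finrank_add
  have hfn := H954.TSing.nondeg_fx hQ hyQ hI.ne0 hI.pow
  have hfx0 : 0 < finrank F (fx (lin y)) := by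
    rw [Nat.pos_iff_ne_zero]
    intro h0
    exact hfx (Submodule.finrank_eq_zero.1 h0)
  have hfx4 : 4 ≤ finrank F (fx (lin y)) := by omega
  -- a basis of `W`
  have : FiniteDimensional F W := inferInstance
  let B := Module.finBasisOfFinrankEq F W hW
  obtain ⟨u, hu⟩ : ∃ u : I8 → F, u = (B 0 : W) := ⟨_, rfl⟩
  obtain ⟨w, hw⟩ : ∃ w : I8 → F, w = (B 1 : W) := ⟨_, rfl⟩
  have huW : u ∈ W := by rw [hu]; exact (B 0).2
  have hwW : w ∈ W := by rw [hw]; exact (B 1).2
  have hli : LinearIndependent F ![u, w] := by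
    have h1 : LinearIndependent F (fun i => ((B i : W) : J8 → F)) :=
      B.linearIndependent.map' W.subtype (Submodule.ker_subtype W)
    have h2 : (fun i => ((B i : W) : J8 → F)) = ![u, w] := by
      funext i
      fin_cases i
      · exact hu.symm
      · exact hw.symm
    rw [h2] at h1
    exact h1
  have hrk : ∀ {x z : I8 → F}, LinearIndependent F ![x, z] → finrank F (Submodule.span F {x, z}) = 2 := by
    intro x z hxz
    have h4 := finrank_span_eq_card hxz
    rw [Fintype.card_fin] at h4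
    rwa [Matrix.range_cons_cons_empty] at h4
  have hspan : Submodule.span F {u, w} = W := by
    refine Submodule.eq_of_le_of_finrank_eq ?_ (by rw [hrk hli, hW])
    rw [Submodule.span_le]
    rintro x (rfl | rfl)
    · exact huW
    · exact hwW
  have hw0 : QF F w ≠ 0 := by
    intro h0
    rw [coe_QF] at h0
    exact hli.ne_zero 1 (hW0 w hwW h0)
  -- a copy in the fixed space
  obtain ⟨u', hu', w', hw', e1, e2, e3⟩ := exists_copy hfn hfx4 (QF F u) (polar (QF F) u w) (QF F w)
  have hval : ∀ α β : F, QF F (α • u' + β • w') = QF F (α • u + β • w) := by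
    intro α β
    rw [Q_add, Q_add, QuadraticMap.map_smul, QuadraticMap.map_smul, QuadraticMap.map_smul, QuadraticMap.map_smul,
      polar_smul_left, polar_smul_left, polar_smul_right, polar_smul_right, e1, e2, e3]
  have hzero : ∀ α β : F, QF F (α • u' + β • w') = 0 → α = 0 ∧ β = 0 := by
    intro α β h0
    rw [hval, coe_QF] at h0
    exact LinearIndependent.pair_iff.1 hli α β
      (hW0 _ (add_mem (Submodule.smul_mem _ _ huW) (Submodule.smul_mem _ _ hwW)) h0)
  have hli' : LinearIndependent F ![u', w'] := by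
    rw [LinearIndependent.pair_iff]
    intro α β h0
    refine hzero α β ?_
    rw [h0]
    exact QuadraticMap.map_zero _
  have hn' : Nondeg (res (QF F) (Submodule.span F {u', w'})) := by
    refine nondeg_of_aniso (hrk hli') ?_
    rintro ⟨v, hv⟩ h0
    obtain ⟨α, β, rfl⟩ := Submodule.mem_span_pair.1 hv
    obtain ⟨rfl, rfl⟩ := hzero α β h0
    exact Subtype.ext (by simp)
  obtain ⟨g, hg, g1, g2⟩ := trans_plane hQ (by omega) hn' hli' (by rw [hspan]; exact hWn) hli e1 e3 e2
    (by rw [e3]; exact hw0)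
  obtain ⟨o, ho⟩ := exists_omega hg
  have h5 : glEquiv I8 F ((o : isometryGroup F (quadFormPlus 4 F)) : Matrix.GeneralLinearGroup I8 F) = g := ho
  refine ⟨((o : isometryGroup F (quadFormPlus 4 F)) : Matrix.GeneralLinearGroup I8 F), ⟨_, o.2, rfl⟩, ?_⟩
  -- the conjugate
  have hyE : ∀ v, glEquiv I8 F y v = lin y v := fun v => rfl
  have hyO : glEquiv I8 F y ∈ O (QF F) := fun v => hyQ v
  have hfix : ∀ v ∈ W, (g * glEquiv I8 F y * g⁻¹) v = v := by
    have hone : ∀ x z : I8 → F, x ∈ fx (lin y) → g x = z → (g * glEquiv I8 F y * g⁻¹) z = z := by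
      rintro x _ hx rfl
      show g (glEquiv I8 F y (g.symm (g x))) = g x
      rw [LinearEquiv.symm_apply_apply, hyE, H951.mem_fx.1 hx]
    intro v hv
    rw [← hspan] at hv
    obtain ⟨α, β, rfl⟩ := Submodule.mem_span_pair.1 hv
    rw [map_add, map_smul, map_smul, hone u' u hu' g1, hone w' w hw' g2]
  have hodd : Odd r := hI.prime.odd_of_ne_two (by have := hI.two_lt; omega)
  have h6 := mem_of_fix hQ hWn (by omega) (N := (pre (quadFormPlus 4 F) X).map (glEquiv I8 F).toMonoidHom)
    (fun u w hu hw h1 h2 => sieg_mem hs u w hu hw h1 h2) (z := g * glEquiv I8 F y * g⁻¹)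
    (mul_mem (mul_mem (E_le_O hg) hyO) (inv_mem (E_le_O hg))) hfix hodd
    (by rw [conj_pow, ← map_pow, hyr1, map_one, mul_one, mul_inv_cancel])
  obtain ⟨c, hc, hc'⟩ := h6
  have h7 : c = ((o : isometryGroup F (quadFormPlus 4 F)) : Matrix.GeneralLinearGroup I8 F) * y *
      ((o : isometryGroup F (quadFormPlus 4 F)) : Matrix.GeneralLinearGroup I8 F)⁻¹ := by
    apply (glEquiv I8 F).injective
    rw [map_mul, map_mul, map_inv, h5]
    exact hc'
  rw [← h7]
  exact hc

end Cfsg.Agent.H886.O8R
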