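import Cfsg.Agent.H436.Names
import Cfsg.Agent.H436.Ppd
import Cfsg.Agent.S0243
import Cfsg.Agent.S0813
import Cfsg.Agent.S0815
import Cfsg.Agent.ClassicalGeometry.PSL2Basic

/-!
# S3691-O8R, box OWN-ORDERS: the orders of the subgroups of `PΩ₈⁺(q)` with socle `PSL₂(q³)` or `PSU₃(q)` (helper886)

* `card_aut_psl2`, `card_aut_psu3`: the orders of the automorphism groups;
* `dvd_psl2`, `dvd_psu3`: the order of a group `R` with a normal subgroup `S` of this type and trivial centralizer divides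
  `3 a * (p ^ (3 a) * (p ^ (6 a) - 1))`, resp. `2 a * (p ^ (3 a) * (p ^ (2 a) - 1) * (p ^ (3 a) + 1))`;
* `psl2_r4`, `psu3_r4`: a primitive prime divisor of `p ^ (4 a) - 1` does not divide `|R|`;
* `psu3_r3`: a primitive prime divisor of `p ^ (3 a) - 1` does not divide `|R|` (case `PSU₃(q)`);
* `psl2_p`: the `p`-part of `|R|` divides `3 a * p ^ (3 a)` (case `PSL₂(q³)`);
* `ord_psl2`, `ord_psu3`: the statements of `tools/plans/S3691_O8_stubs.lean.txt` (take `h.rb.hp h.rb.ha h.rb.prim`).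
-/

set_option autoImplicit false
set_option linter.unusedSectionVars false

namespace Cfsg.Agent.H886.O8R

open Cfsg Cfsg.Agent.OrdDiv Cfsg.Agent.H436

universe u v

/-- `|R|` divides `|Aut S|` for `S` normal in `R` with trivial centraliser -/
theorem dvd_aut {R : Type*} [Group R] [Finite R] (S : Subgroup R) [S.Normal]
    (hC : Subgroup.centralizer (S : Set R) = ⊥) : Nat.card R ∣ Nat.card (MulAut S) := by
  have hinj : Function.Injective (MulAut.conjNormal : R →* MulAut S) := by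
    rw [← MonoidHom.ker_eq_bot_iff, eq_bot_iff]
    intro x hx
    rw [← hC, Subgroup.mem_centralizer_iff]
    intro y hy
    have h1 := DFunLike.congr_fun ((MonoidHom.mem_ker).1 hx) ⟨y, hy⟩
    have h2 := congrArg Subtype.val h1
    rw [MulAut.conjNormal_apply, MulAut.one_apply] at h2
    exact (mul_inv_eq_iff_eq_mul.1 h2).symm
  rw [Nat.card_congr ((MulAut.conjNormal : R →* MulAut S).ofInjective hinj).toEquiv]
  exact Subgroup.card_subgroup_dvd_card _

theorem mulaut_congr {S T : Type*} [Group S] [Group T] (e : S ≃* T) : Nat.card (MulAut S) = Nat.card (MulAut T) :=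
  Nat.card_congr (MulAut.congr e).toEquiv

theorem card_pgl {F : Type} [Field F] [Fintype F] {n : ℕ} (hn : 2 ≤ n) : Nat.card (Matrix.ProjGenLinGroup (Fin n) F) =
    Nat.gcd n (Fintype.card F - 1) * Nat.card (Matrix.ProjectiveSpecialLinearGroup (Fin n) F) := by
  classical
  have : NeZero n := ⟨by omega⟩
  have h1 := Cfsg.Agent.S0243.result (F := F) rfl n hn
  have h2 : Nat.card (Matrix.ProjGenLinGroup (Fin n) F) * (Fintype.card F - 1) = Nat.card (Matrix.GeneralLinearGroup (Fin n) F) :=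
    Cfsg.Agent.ClassicalGeometry.PSL2Basic.card_PGL_mul (Fin n) F
  rw [Matrix.card_GL_field, ← h1] at h2
  have h3 : 0 < Fintype.card F - 1 := by
    have := Fintype.one_lt_card (α := F)
    omega
  have h4 : Nat.card (Matrix.ProjGenLinGroup (Fin n) F) * (Fintype.card F - 1) =
    (Nat.gcd n (Fintype.card F - 1) * Nat.card (Matrix.ProjectiveSpecialLinearGroup (Fin n) F)) *
      (Fintype.card F - 1) := by
    rw [h2]; ring
  exact Nat.eq_of_mul_eq_mul_right h3 h4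

section aut

variable {S : Type u} [Group S] {p f : ℕ}

/-- the order of the automorphism group of `PSL₂(p ^ f)` -/
theorem card_aut_psl2 (hp : p.Prime) (hf : 1 ≤ f) (h4 : 4 ≤ p ^ f) {K : Type} [Field K] [Fintype K]
    (hK : Fintype.card K = p ^ f) (e : S ≃* Matrix.ProjectiveSpecialLinearGroup (Fin 2) K) :
    Nat.card (MulAut S) = f * (p ^ f * (p ^ (2 * f) - 1)) := by
  have := Fact.mk hp
  have h1 := S0813.result (F := K) p f hf hK 2 le_rfl (fun _ => h4)
  rw [if_pos rfl, one_mul, card_pgl le_rfl] at h1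
  have h2 := S0243.result (F := K) rfl 2 le_rfl
  rw [Fin.prod_univ_two] at h2
  have h3 : 0 < Fintype.card K - 1 := by
    have := Fintype.one_lt_card (α := K)
    omega
  rw [mulaut_congr e, h1]
  congr 1
  refine Nat.eq_of_mul_eq_mul_left h3 ?_
  have h5 : (Fintype.card K - 1) * (Nat.gcd 2 (Fintype.card K - 1) *
      Nat.card (Matrix.ProjectiveSpecialLinearGroup (Fin 2) K)) =
      (Fintype.card K ^ 2 - Fintype.card K ^ (0 : ℕ)) * (Fintype.card K ^ 2 - Fintype.card K ^ (1 : ℕ)) := by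
    rw [mul_left_comm]
    exact h2
  rw [h5, hK, pow_zero, pow_one, ← pow_mul, mul_comm f 2]
  have h6 : p ^ (2 * f) - p ^ f = (p ^ f - 1) * p ^ f := by
    rw [Nat.sub_mul, one_mul, ← pow_add, two_mul]
  rw [h6]
  ring

/-- the order of the automorphism group of `PSU₃(p ^ f)` -/
theorem card_aut_psu3 (hp : p.Prime) (hf : 1 ≤ f) (h3 : 3 ≤ p ^ f) {K : Type} [Field K] [Fintype K]
    (hK : Fintype.card K = (p ^ f) ^ 2) (e : S ≃* PSU 3 K (p ^ f)) :
    Nat.card (MulAut S) = 2 * f * (p ^ (3 * f) * (p ^ (2 * f) - 1) * (p ^ (3 * f) + 1)) := by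
  have := Fact.mk hp
  have h1 := S0815.result (F := K) p f hf rfl hK 3 le_rfl (fun h => by omega)
  have h2 := psu_eq (F := K) (n := 3) hK le_rfl
  change Nat.gcd 3 (p ^ f + 1) * (p ^ f + 1) * Nat.card (PSU 3 K (p ^ f)) =
    (p ^ f) ^ (3 * (3 - 1) / 2) * prU (p ^ f) 3 at h2
  have h4 : prU (p ^ f) 3 = (p ^ f + 1) * ((p ^ f) ^ 2 - 1) * ((p ^ f) ^ 3 + 1) := by
    simp [prU, List.range_succ]
    ring
  rw [h4] at h2
  rw [mulaut_congr e, h1]
  have h5 : 0 < p ^ f + 1 := Nat.succ_pos _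
  have h6 : Nat.gcd 3 (p ^ f + 1) * Nat.card (PSU 3 K (p ^ f)) =
      p ^ (3 * f) * (p ^ (2 * f) - 1) * (p ^ (3 * f) + 1) := by
    refine Nat.eq_of_mul_eq_mul_left h5 ?_
    rw [show (p ^ f + 1) * (Nat.gcd 3 (p ^ f + 1) * Nat.card (PSU 3 K (p ^ f))) =
      Nat.gcd 3 (p ^ f + 1) * (p ^ f + 1) * Nat.card (PSU 3 K (p ^ f)) by ring, h2]
    rw [show 3 * (3 - 1) / 2 = 3 by norm_num, ← pow_mul, ← pow_mul, mul_comm f 2, mul_comm f 3]
    ring
  rw [← h6]
  ring

end aut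

section
variable {R : Type u} [Group R] [Finite R] (S : Subgroup R) [S.Normal] {p a : ℕ}

include S in
/-- **`PSL₂(q³)`** -/
theorem dvd_psl2 (hp : p.Prime) (ha : 1 ≤ a) (hC : Subgroup.centralizer (S : Set R) = ⊥)
    (h : ∃ (K : Type) (_ : Field K) (_ : Fintype K), Fintype.card K = p ^ (3 * a) ∧
      Nonempty (S ≃* Matrix.ProjectiveSpecialLinearGroup (Fin 2) K)) :
    Nat.card R ∣ 3 * a * (p ^ (3 * a) * (p ^ (6 * a) - 1)) := by
  obtain ⟨K, i1, i2, hK, ⟨e⟩⟩ := h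
  have h1 := dvd_aut S hC
  have h4 : 4 ≤ p ^ (3 * a) := by
    calc 4 ≤ 2 ^ 3 := by norm_num
      _ ≤ p ^ 3 := Nat.pow_le_pow_left hp.two_le 3
      _ ≤ p ^ (3 * a) := Nat.pow_le_pow_right hp.pos (by omega)
  rw [card_aut_psl2 hp (by omega) h4 hK e] at h1
  rwa [show 2 * (3 * a) = 6 * a by ring] at h1

include S in
/-- **`PSU₃(q)`** -/
theorem dvd_psu3 (hp : p.Prime) (ha : 1 ≤ a) (h3 : 3 ≤ p ^ a) (hC : Subgroup.centralizer (S : Set R) = ⊥)
    (h : OrdDiv.Real (.psu 3 (p ^ a)) S) :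
    Nat.card R ∣ 2 * a * (p ^ (3 * a) * (p ^ (2 * a) - 1) * (p ^ (3 * a) + 1)) := by
  obtain ⟨K, i1, i2, hK, ⟨e⟩⟩ := h
  have h1 := dvd_aut S hC
  rwa [card_aut_psu3 hp ha h3 hK e] at h1

theorem lt_prim {e r : ℕ} (hp : 1 ≤ p) (h : Prim p e r) : e < r := by
  have h1 := (h.dvd_iff (r - 1)).1 (by
    have := Fact.mk h.prime
    have h2 : ((p : ℕ) : ZMod r) ≠ 0 := by
      rw [Ne, ZMod.natCast_eq_zero_iff]
      exact h.not_dvd
    have h3 := ZMod.pow_card_sub_one_eq_one h2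
    rw [← Nat.cast_pow] at h3
    have h4 : 1 ≤ p ^ (r - 1) := Nat.one_le_pow _ _ hp
    rw [← ZMod.natCast_eq_zero_iff, Nat.cast_sub h4, h3, Nat.cast_one, sub_self])
  have h2 := h.prime.two_le
  have h3 := Nat.le_of_dvd (by omega) h1
  omega

/-- a primitive prime divisor of `p ^ (4 a) - 1` does not divide `|R|`, case `PSL₂(q³)` -/
theorem psl2_r4 {r : ℕ} (hp : p.Prime) (ha : 1 ≤ a) (hr : Prim p (4 * a) r)
    (h : Nat.card R ∣ 3 * a * (p ^ (3 * a) * (p ^ (6 * a) - 1))) : ¬ r ∣ Nat.card R := by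
  intro hd
  have h0 : 4 * a < r := lt_prim hp.one_le hr
  have h1 := hd.trans h
  rcases hr.prime.dvd_mul.1 h1 with h2 | h2
  · have := Nat.le_of_dvd (by omega) h2
    omega
  · rcases hr.prime.dvd_mul.1 h2 with h3 | h3
    · exact hr.not_dvd_pow _ h3
    · rw [hr.dvd_iff] at h3
      obtain ⟨c, hc⟩ := h3
      have h5 : 6 = 4 * c := by
        have h6 : a * 6 = a * (4 * c) := by rw [mul_comm, hc]; ring
        exact Nat.eq_of_mul_eq_mul_left (by omega) h6
      omega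

/-- the `p`-part of `|R|`, case `PSL₂(q³)` -/
theorem psl2_p (hp : p.Prime) (ha : 1 ≤ a)
    (h : Nat.card R ∣ 3 * a * (p ^ (3 * a) * (p ^ (6 * a) - 1))) {n : ℕ} (hn : p ^ (3 * a + n) ∣ Nat.card R) :
    p ^ n ∣ 3 * a := by
  have h1 := hn.trans h
  have h2 : Nat.Coprime (p ^ (3 * a + n)) (p ^ (6 * a) - 1) := by
    refine Nat.Coprime.pow_left _ ((Nat.Prime.coprime_iff_not_dvd hp).2 fun h3 => ?_)
    have h4 : p ∣ p ^ (6 * a) := dvd_pow_self _ (by omega)
    have h5 : 1 ≤ p ^ (6 * a) := Nat.one_le_pow _ _ hp.pos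
    have h6 : p ∣ 1 := by
      have := (Nat.dvd_sub_iff_right h5 h4).1 h3
      exact this
    exact hp.one_lt.ne' (Nat.dvd_one.1 h6)
  rw [show 3 * a * (p ^ (3 * a) * (p ^ (6 * a) - 1)) = (p ^ (3 * a) * (3 * a)) * (p ^ (6 * a) - 1) by ring] at h1
  have h3 := h2.dvd_of_dvd_mul_right h1
  rw [pow_add] at h3
  exact Nat.dvd_of_mul_dvd_mul_left (pow_pos hp.pos _) h3

/-- a primitive prime divisor of `p ^ (4 a) - 1` does not divide `|R|`, case `PSU₃(q)` -/
theorem psu3_r4 {r : ℕ} (hp : p.Prime) (ha : 1 ≤ a) (hr : Prim p (4 * a) r)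
    (h : Nat.card R ∣ 2 * a * (p ^ (3 * a) * (p ^ (2 * a) - 1) * (p ^ (3 * a) + 1))) : ¬ r ∣ Nat.card R := by
  intro hd
  have h0 : 4 * a < r := lt_prim hp.one_le hr
  have h1 := hd.trans h
  rcases hr.prime.dvd_mul.1 h1 with h2 | h2
  · have := Nat.le_of_dvd (by omega) h2
    omega
  rcases hr.prime.dvd_mul.1 h2 with h2 | h2
  · rcases hr.prime.dvd_mul.1 h2 with h3 | h3
    · exact hr.not_dvd_pow _ h3
    · rw [hr.dvd_iff] at h3
      have := Nat.le_of_dvd (by omega) h3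
      omega
  · refine hr.not_dvd_add (fun h3 => ?_) h2
    obtain ⟨c, hc⟩ := h3
    have h5 : 6 = 4 * c := by
      have h6 : a * 6 = a * (4 * c) := by
        calc a * 6 = 2 * (3 * a) := by ring
          _ = a * (4 * c) := by rw [hc]; ring
      exact Nat.eq_of_mul_eq_mul_left (by omega) h6
    omega

/-- a primitive prime divisor of `p ^ (3 a) - 1` does not divide `|R|`, case `PSU₃(q)` -/
theorem psu3_r3 {t : ℕ} (hp : p.Prime) (ha : 1 ≤ a) (ht : Prim p (3 * a) t)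
    (h : Nat.card R ∣ 2 * a * (p ^ (3 * a) * (p ^ (2 * a) - 1) * (p ^ (3 * a) + 1))) : ¬ t ∣ Nat.card R := by
  intro hd
  have h0 : 3 * a < t := lt_prim hp.one_le ht
  have h1 := hd.trans h
  rcases ht.prime.dvd_mul.1 h1 with h2 | h2
  · have := Nat.le_of_dvd (by omega) h2
    omega
  rcases ht.prime.dvd_mul.1 h2 with h2 | h2
  · rcases ht.prime.dvd_mul.1 h2 with h3 | h3
    · exact ht.not_dvd_pow _ h3
    · rw [ht.dvd_iff] at h3
      have := Nat.le_of_dvd (by omega) h3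
      omega
  · have h3 : t ∣ p ^ (3 * a) - 1 := ht.dvd dvd_rfl
    have h4 : t ∣ 2 := by
      have h5 : p ^ (3 * a) + 1 = (p ^ (3 * a) - 1) + 2 := by
        have := Nat.one_le_pow (3 * a) p hp.pos
        omega
      rw [h5] at h2
      exact (Nat.dvd_add_right h3).1 h2
    have := Nat.le_of_dvd (by norm_num) h4
    omega

end

/-! ### the statements of the stub file -/

section stubs

variable {R : Type} [Group R] [Finite R] {p a : ℕ}

/-- **`ord_psl2`** -/
theorem ord_psl2 {r : ℕ} (hp : p.Prime) (ha : 1 ≤ a) (hr : Prim p (4 * a) r) (S : Subgroup R) [S.Normal]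
    (hC : Subgroup.centralizer (S : Set R) = ⊥) {K : Type} [Field K] [Fintype K] (hK : Fintype.card K = p ^ (3 * a))
    (e : S ≃* Matrix.ProjectiveSpecialLinearGroup (Fin 2) K) :
    ¬ r ∣ Nat.card R ∧ ¬ p ^ (6 * a + 2) ∣ Nat.card R := by
  have h := dvd_psl2 S hp ha hC ⟨K, inferInstance, inferInstance, hK, ⟨e⟩⟩
  refine ⟨psl2_r4 hp ha hr h, fun h1 => ?_⟩
  rw [show 6 * a + 2 = 3 * a + (3 * a + 2) by ring] at h1
  have h2 := Nat.le_of_dvd (by omega) (psl2_p hp ha h h1)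
  have h3 : 3 * a + 2 < p ^ (3 * a + 2) := Nat.lt_pow_self hp.one_lt
  omega

/-- **`ord_psu3`** -/
theorem ord_psu3 {r t : ℕ} (hp : p.Prime) (ha : 1 ≤ a) (h3 : 3 ≤ p ^ a) (hr : Prim p (4 * a) r)
    (ht : Prim p (3 * a) t) (S : Subgroup R) [S.Normal]
    (hC : Subgroup.centralizer (S : Set R) = ⊥) (hS : IsNamed (.psu 3 (p ^ a)) S) :
    ¬ r ∣ Nat.card R ∧ ¬ t ∣ Nat.card R := by
  have h := dvd_psu3 S hp ha h3 hC hS.real
  exact ⟨psu3_r4 hp ha hr h, psu3_r3 hp ha ht h⟩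

end stubs

end Cfsg.Agent.H886.O8R
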